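import Cfsg.Agent.Lib.ThreeFreeMax.Orders
import Cfsg.Agent.Lib.PiHomog86.Suzuki
import Cfsg.Agent.Lib.CITThree.SzGraph

/-!
A finite group with the maximal subgroup orders of a Suzuki group is that Suzuki group, provided the
simple groups of order prime to `3` are Suzuki groups.
-/

set_option autoImplicit false
set_option linter.style.haveILetI false
set_option linter.unusedSectionVars false

namespace CfsgLib.ThreeFreeMax

open CfsgLib.SuzukiGroup CfsgLib.PiHomog86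

universe u v

theorem prime_le_toA {m p : ℕ} (hm : 1 ≤ m) (hp : p.Prime)
    (h : p ∣ (2 ^ (2 * m + 1)) ^ 2 * (2 ^ (2 * m + 1) - 1) * ((2 ^ (2 * m + 1)) ^ 2 + 1)) :
    p ≤ toA m := by
  obtain ⟨hqA, -, -, hq1A, hBA⟩ := toA_bounds hm
  have hq : 8 ≤ 2 ^ (2 * m + 1) := by
    calc 8 = 2 ^ 3 := rfl
      _ ≤ _ := Nat.pow_le_pow_right (by norm_num) (by omega)
  rcases hp.dvd_mul.1 h with h1 | h1
  · rcases hp.dvd_mul.1 h1 with h2 | h2
    · have h3 := Nat.le_of_dvd two_pos (hp.dvd_of_dvd_pow (hp.dvd_of_dvd_pow h2))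
      omega
    · have h3 := Nat.le_of_dvd (by omega) h2
      omega
  · rw [← toA_mul_toB] at h1
    rcases hp.dvd_mul.1 h1 with h2 | h2
    · exact Nat.le_of_dvd (by have := one_lt_toA m; omega) h2
    · exact (Nat.le_of_dvd (by have := one_lt_toB m hm; omega) h2).trans hBA

theorem five_dvd (k : ℕ) : 5 ∣ (2 ^ (2 * k + 1)) ^ 2 + 1 := by
  rw [← pow_mul, show (2 * k + 1) * 2 = 4 * k + 2 by ring, pow_add, pow_mul]
  simp [Nat.dvd_iff_mod_eq_zero, Nat.add_mod, Nat.mul_mod, Nat.pow_mod]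

theorem five_not_dvd_borelOrder (m : ℕ) : ¬ 5 ∣ borelOrder m := by
  intro h
  rcases Nat.prime_five.dvd_mul.1 h with h1 | h1
  · have h2 := Nat.prime_five.dvd_of_dvd_pow (Nat.prime_five.dvd_of_dvd_pow h1)
    omega
  · have h2 : 2 ^ (2 * m + 1) % 5 = 2 ∨ 2 ^ (2 * m + 1) % 5 = 3 := by
      rw [pow_succ, pow_mul]
      rcases Nat.even_or_odd' m with ⟨j, rfl | rfl⟩
      · left; simp [pow_mul, Nat.mul_mod, Nat.pow_mod]
      · right; simp [pow_succ, pow_mul, Nat.mul_mod, Nat.pow_mod]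
    generalize 2 ^ (2 * m + 1) = y at h1 h2
    omega

section

variable {G : Type u} [Group G] [Finite G]

/-- What is used about the orders of the maximal subgroups. -/
structure OrderData (G : Type u) [Group G] (m : ℕ) : Prop where
  one_le : 1 ≤ m
  dvd : ∀ M : Subgroup G, IsCoatom M →
    Nat.card M ∣ (2 ^ (2 * m + 1)) ^ 2 * (2 ^ (2 * m + 1) - 1) * ((2 ^ (2 * m + 1)) ^ 2 + 1)
  le : ∀ M : Subgroup G, IsCoatom M → Nat.card M ≤ borelOrder m
  borel : ∃ M : Subgroup G, IsCoatom M ∧ Nat.card M = borelOrder m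
  torus : ∃ M : Subgroup G, IsCoatom M ∧ Nat.card M = 4 * toA m
  total : (2 ^ (2 * m + 1)) ^ 2 * (2 ^ (2 * m + 1) - 1) * ((2 ^ (2 * m + 1)) ^ 2 + 1) ∣ Nat.card G

theorem card_eq_of_orderData (hTF : ThreeFreeSimple.{u}) {m : ℕ} (d : OrderData G m) :
    ∃ (F : Type) (_ : Field F) (_ : Fintype F), Fintype.card F = 2 ^ (2 * m + 1) ∧
      Nonempty (G ≃* ↥(Cfsg.Lie.Sz F (2 ^ (m + 1)))) := by
  classical
  have hm := d.one_le
  set q := 2 ^ (2 * m + 1) with hq
  have hq8 : 8 ≤ q := by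
    calc 8 = 2 ^ 3 := rfl
      _ ≤ _ := Nat.pow_le_pow_right (by norm_num) (by omega)
  obtain ⟨Ma, hMa, hMac⟩ := d.borel
  obtain ⟨Mc, hMc, hMcc⟩ := d.torus
  haveI : Nontrivial G := by
    by_contra hsub
    rw [not_nontrivial_iff_subsingleton] at hsub
    exact hMa.1 (Subsingleton.elim _ _)
  -- a maximal normal subgroup
  obtain ⟨K, hK⟩ : ∃ K, Maximal (fun K : Subgroup G => K.Normal ∧ K ≠ ⊤) K := by
    obtain ⟨K, -, hK⟩ := Finite.exists_le_maximal (p := fun K : Subgroup G => K.Normal ∧ K ≠ ⊤)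
      (a := (⊥ : Subgroup G)) ⟨inferInstance, bot_ne_top⟩
    exact ⟨K, hK⟩
  haveI := hK.1.1
  haveI : Nontrivial (G ⧸ K) := QuotientGroup.nontrivial_iff.2 hK.1.2
  haveI hsimp : IsSimpleGroup (G ⧸ K) := by
    refine ⟨fun H hH => ?_⟩
    have hle : K ≤ H.comap (QuotientGroup.mk' K) := fun x hx => by
      rw [Subgroup.mem_comap, show QuotientGroup.mk' K x = 1 from (QuotientGroup.eq_one_iff x).2 hx]
      exact H.one_mem
    by_cases htop : H.comap (QuotientGroup.mk' K) = ⊤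
    · right
      rw [← Subgroup.map_comap_eq_self_of_surjective (QuotientGroup.mk'_surjective K) H, htop,
        Subgroup.map_top_of_surjective _ (QuotientGroup.mk'_surjective K)]
    · left
      have := le_antisymm (hK.2 ⟨hH.comap _, htop⟩ hle) hle
      rw [← Subgroup.map_comap_eq_self_of_surjective (QuotientGroup.mk'_surjective K) H, this,
        Subgroup.map_eq_bot_iff, QuotientGroup.ker_mk']
  have hcardG : Nat.card G = Nat.card (G ⧸ K) * Nat.card K :=
    Subgroup.card_eq_card_quotient_mul_card_subgroup K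
  -- the quotient is non-abelian
  have hna : ¬ IsMulCommutative (G ⧸ K) := by
    intro hc
    letI : CommGroup (G ⧸ K) :=
      { (inferInstance : Group (G ⧸ K)) with mul_comm := fun a b => hc.is_comm.comm a b }
    have hp : (Nat.card (G ⧸ K)).Prime := IsSimpleGroup.prime_card
    have hKco : IsCoatom K := by
      refine ⟨hK.1.2, fun H hH => ?_⟩
      by_contra hne
      have hn : H.Normal := ⟨fun h hh g => by
        have e : (QuotientGroup.mk' K) (g * h * g⁻¹) = QuotientGroup.mk' K h := by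
          rw [map_mul, map_mul, map_inv, mul_comm, inv_mul_cancel_left]
        have h1 : h⁻¹ * (g * h * g⁻¹) ∈ K := QuotientGroup.eq.1 e.symm
        simpa using H.mul_mem hh (hH.le h1)⟩
      exact not_le_of_gt hH (hK.2 ⟨hn, hne⟩ hH.le)
    have hn := d.total
    rw [hcardG] at hn
    set p := Nat.card (G ⧸ K)
    set N := q ^ 2 * (q - 1) * (q ^ 2 + 1) with hN
    have hKle := d.le K hKco
    have hpos : 0 < borelOrder m := Nat.mul_pos (by positivity) (by omega)
    have hbig : borelOrder m < N := by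
      show borelOrder m < borelOrder m * (q ^ 2 + 1)
      exact lt_mul_of_one_lt_right hpos (by nlinarith)
    by_cases hpN : p ∣ N
    · have h1 := prime_le_toA hm hp hpN
      have h2 : toA m < q ^ 2 + 1 := (toA_bounds hm).2.1
      have h3 : p * Nat.card K < (q ^ 2 + 1) * borelOrder m :=
        lt_of_lt_of_le (Nat.mul_lt_mul_of_pos_right (show p < q ^ 2 + 1 by omega) Nat.card_pos)
          (Nat.mul_le_mul_left _ hKle)
      have h4 := Nat.le_of_dvd (Nat.mul_pos hp.pos Nat.card_pos) hn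
      have h5 : N = (q ^ 2 + 1) * borelOrder m := mul_comm _ _
      omega
    · have h1 := Nat.le_of_dvd Nat.card_pos
        ((Nat.Coprime.dvd_of_dvd_mul_left (hp.coprime_iff_not_dvd.2 hpN).symm) hn)
      omega
  -- `3` does not divide the order
  have h3G : ¬ 3 ∣ Nat.card G := by
    intro h3
    haveI : Fact (Nat.Prime 3) := ⟨Nat.prime_three⟩
    obtain ⟨x, hx⟩ := exists_prime_orderOf_dvd_card' 3 h3
    obtain ⟨M, hM, hxM⟩ := (eq_top_or_exists_le_coatom (Subgroup.zpowers x)).resolve_left fun e => by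
      have h1 : Nat.card G = 3 := by rw [← Subgroup.card_top (G := G), ← e, Nat.card_zpowers, hx]
      have h2 := Subgroup.card_le_card_group Ma
      rw [h1, hMac] at h2
      have : 64 * 1 ≤ q ^ 2 * (q - 1) := Nat.mul_le_mul (by nlinarith) (by omega)
      change q ^ 2 * (q - 1) ≤ 3 at h2
      omega
    have h4 : 3 ∣ Nat.card M := hx ▸ Subgroup.orderOf_dvd_natCard _ (hxM (Subgroup.mem_zpowers x))
    have h5 := h4.trans (d.dvd M hM)
    have h6 : q % 3 = 2 := by
      rw [hq, pow_succ, pow_mul, Nat.mul_mod, Nat.pow_mod]; norm_num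
    change 3 ∣ q ^ 2 * (q - 1) * (q ^ 2 + 1) at h5
    have h7 : q ^ 2 % 3 = 1 := by rw [Nat.pow_mod, h6]
    rcases Nat.prime_three.dvd_mul.1 h5 with h8 | h8
    · rcases Nat.prime_three.dvd_mul.1 h8 with h9 | h9 <;> omega
    · omega
  -- the quotient is a Suzuki group
  obtain ⟨F, fF, ftF, k, hk, hFk, ⟨e⟩⟩ := hTF (G ⧸ K) hsimp hna
    fun h => h3G (h.trans (Subgroup.card_quotient_dvd_card K))
  have hqk : Nat.card (G ⧸ K) =
      (2 ^ (2 * k + 1)) ^ 2 * (2 ^ (2 * k + 1) - 1) * ((2 ^ (2 * k + 1)) ^ 2 + 1) := by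
    rw [Nat.card_congr e.toEquiv, CfsgLib.CITThree.SzGraph.card_eq hFk]
  have hsub : ∀ M : Subgroup G, ¬ K ≤ M → IsCoatom M → Nat.card (G ⧸ K) ∣ Nat.card M := by
    intro M hKM hM
    have hsup : M ⊔ K = ⊤ := hM.2 _ (lt_of_le_of_ne le_sup_left fun e => hKM (e ▸ le_sup_right))
    have hsurj : Function.Surjective ((QuotientGroup.mk' K).comp M.subtype) := by
      intro y
      obtain ⟨g, rfl⟩ := QuotientGroup.mk'_surjective K y
      obtain ⟨a, ha, b, hb, rfl⟩ := Subgroup.mem_sup_of_normal_right.1 (hsup.ge (Subgroup.mem_top g))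
      exact ⟨⟨a, ha⟩, QuotientGroup.eq.2 (by simpa using hb)⟩
    exact Subgroup.card_dvd_of_surjective _ hsurj
  have hKa : K ≤ Ma := by
    by_contra hcon
    refine five_not_dvd_borelOrder m ?_
    rw [← hMac]
    exact (hqk ▸ (five_dvd k).mul_left _ : 5 ∣ Nat.card (G ⧸ K)).trans (hsub Ma hcon hMa)
  have hKc : K ≤ Mc := by
    by_contra hcon
    have h1 : 8 ∣ Nat.card (G ⧸ K) := by
      rw [hqk]
      refine dvd_mul_of_dvd_left (dvd_mul_of_dvd_left ?_ _) _
      rw [← pow_mul]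
      exact (pow_dvd_pow 2 (by omega : 3 ≤ (2 * k + 1) * 2) : 2 ^ 3 ∣ _)
    have h2 := h1.trans (hsub Mc hcon hMc)
    rw [hMcc] at h2
    have h3 : 2 ∣ toA m := (Nat.mul_dvd_mul_iff_left (by norm_num : 0 < 4)).1 h2
    have h4 : 2 ∣ 2 ^ (2 * m + 1) + 2 ^ (m + 1) :=
      dvd_add (dvd_pow_self 2 (by omega)) (dvd_pow_self 2 (by omega))
    unfold toA at h3
    omega
  have hK4 : Nat.card K ∣ 4 := by
    have h1 := Subgroup.card_dvd_of_le hKa
    have h2 := Subgroup.card_dvd_of_le hKc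
    rw [hMac] at h1
    rw [hMcc] at h2
    have hco : (toA m).Coprime (borelOrder m) := by
      have hdA : toA m ∣ q ^ 2 + 1 := by rw [hq, ← toA_mul_toB m]; exact dvd_mul_right _ _
      refine Nat.Coprime.mul_right ?_ ?_
      · exact (Nat.coprime_pow_right_iff two_pos _ _).2 (((coprime_q_sq hdA).pow_right _))
      · refine Nat.coprime_of_dvd fun p hp hpA hp1 => ?_
        have h5 : p ∣ (q ^ 2 + 1) - (q + 1) * (q - 1) :=
          Nat.dvd_sub (hpA.trans hdA) (hp1.mul_left _)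
        have h6 : (q ^ 2 + 1) - (q + 1) * (q - 1) = 2 := by
          rw [← Nat.sq_sub_sq, one_pow]
          have : 1 ≤ q ^ 2 := Nat.one_le_pow _ _ (by omega)
          omega
        rw [h6] at h5
        have := (Nat.prime_dvd_prime_iff_eq hp Nat.prime_two).1 h5
        subst this
        exact hp.coprime_iff_not_dvd.1 (coprime_q_sq hdA).symm hpA
    exact (Nat.Coprime.coprime_dvd_left h1 hco.symm).dvd_of_dvd_mul_right h2
  -- compare the powers of two
  haveI : Fact (Nat.Prime 2) := ⟨Nat.prime_two⟩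
  obtain ⟨i, hi, hKi⟩ := (Nat.dvd_prime_pow Nat.prime_two).1 (show Nat.card K ∣ 2 ^ 2 from hK4)
  have hodd : ∀ j : ℕ, Nat.Coprime 2 ((2 ^ (2 * j + 1) - 1) * ((2 ^ (2 * j + 1)) ^ 2 + 1)) := by
    intro j
    refine Nat.coprime_two_left.2 (Odd.mul ?_ ?_)
    · exact Nat.Even.sub_odd Nat.one_le_two_pow (Nat.even_pow.2 ⟨even_two, by omega⟩) odd_one
    · exact ((Nat.even_pow.2 ⟨Nat.even_pow.2 ⟨even_two, by omega⟩, by omega⟩).add_odd odd_one)
  have hGk : Nat.card G = 2 ^ (i + 2 * (2 * k + 1)) *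
      ((2 ^ (2 * k + 1) - 1) * ((2 ^ (2 * k + 1)) ^ 2 + 1)) := by
    have e2 : 2 ^ (2 * (2 * k + 1)) = (2 ^ (2 * k + 1)) ^ 2 := by
      rw [mul_comm 2 (2 * k + 1), pow_mul]
    rw [hcardG, hqk, hKi, pow_add 2 i, e2]
    ring
  have hle1 : i + 2 * (2 * k + 1) ≤ 2 * (2 * m + 1) := by
    obtain ⟨R⟩ : Nonempty (Sylow 2 G) := inferInstance
    have hR : 2 ^ (i + 2 * (2 * k + 1)) ∣ Nat.card (R : Subgroup G) :=
      R.pow_dvd_card_of_pow_dvd_card (hGk ▸ dvd_mul_right _ _)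
    have hne : (R : Subgroup G) ≠ ⊤ := by
      intro e
      have h1 : IsPGroup 2 G := by
        exact (e ▸ R.2 : IsPGroup 2 (⊤ : Subgroup G)).of_equiv Subgroup.topEquiv
      obtain ⟨j, hj⟩ := IsPGroup.iff_card.1 h1
      have h5 : 5 ∣ Nat.card G :=
        (hqk ▸ (five_dvd k).mul_left _ : 5 ∣ Nat.card (G ⧸ K)).trans
          (Subgroup.card_quotient_dvd_card K)
      rw [hj] at h5
      have := Nat.le_of_dvd two_pos (Nat.prime_five.dvd_of_dvd_pow h5)
      omega
    obtain ⟨M, hM, hRM⟩ := (eq_top_or_exists_le_coatom (R : Subgroup G)).resolve_left hne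
    have h2 := (hR.trans (Subgroup.card_dvd_of_le hRM)).trans (d.dvd M hM)
    rw [mul_assoc] at h2
    have h3 := ((hodd m).pow_left _).dvd_of_dvd_mul_right h2
    rw [← pow_mul] at h3
    have := (Nat.pow_dvd_pow_iff_le_right (by norm_num : 1 < 2)).1 h3
    omega
  have hge1 : 2 * (2 * m + 1) ≤ i + 2 * (2 * k + 1) := by
    have h1 : 2 ^ (2 * (2 * m + 1)) ∣ Nat.card G := by
      refine dvd_trans ?_ d.total
      rw [mul_assoc, mul_comm 2 (2 * m + 1), pow_mul]
      exact dvd_mul_right _ _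
    rw [hGk] at h1
    exact (Nat.pow_dvd_pow_iff_le_right (by norm_num : 1 < 2)).1
      (((hodd k).pow_left _).dvd_of_dvd_mul_right h1)
  have hkm : k = m := by omega
  subst hkm
  have hKbot : K = ⊥ := Subgroup.card_eq_one.1 (by rw [hKi, show i = 0 by omega, pow_zero])
  exact ⟨F, fF, ftF, hFk,
    ⟨((QuotientGroup.quotientBot (G := G)).symm.trans (QuotientGroup.quotientMulEquivOfEq hKbot.symm)).trans e⟩⟩

end

/-- A group with the maximal subgroup orders of a Suzuki group is that group. -/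
theorem iso_of_maximal_orders (hTF : ThreeFreeSimple.{u}) {G : Type u} [Group G] [Finite G]
    {F : Type v} [Field F] [Fintype F] (m : ℕ) (hm : 1 ≤ m) (hF : Fintype.card F = 2 ^ (2 * m + 1))
    (h : {k : ℕ | ∃ M : Subgroup G, IsCoatom M ∧ k = Nat.card ↥M} =
      {k : ℕ | ∃ M : Subgroup ↥(Cfsg.Lie.Sz F (2 ^ (m + 1))), IsCoatom M ∧ k = Nat.card ↥M}) :
    Nonempty (G ≃* ↥(Cfsg.Lie.Sz F (2 ^ (m + 1)))) := by
  obtain ⟨hc, ⟨P⟩⟩ := exists_params hF
  have hL : Nat.card ↥(Cfsg.Lie.Sz F (2 ^ (m + 1))) =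
      (2 ^ (2 * m + 1)) ^ 2 * (2 ^ (2 * m + 1) - 1) * ((2 ^ (2 * m + 1)) ^ 2 + 1) :=
    CfsgLib.CITThree.SzGraph.card_eq hF
  have hfrom : ∀ M : Subgroup G, IsCoatom M → ∃ M' : Subgroup ↥(Cfsg.Lie.Sz F (2 ^ (m + 1))),
      IsCoatom M' ∧ Nat.card M = Nat.card M' := fun M hM =>
    (Set.ext_iff.1 h (Nat.card M)).1 ⟨M, hM, rfl⟩
  have hto : ∀ M' : Subgroup ↥(Cfsg.Lie.Sz F (2 ^ (m + 1))), IsCoatom M' →
      ∃ M : Subgroup G, IsCoatom M ∧ Nat.card M' = Nat.card M := fun M' hM' =>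
    (Set.ext_iff.1 h (Nat.card M')).2 ⟨M', hM', rfl⟩
  have hd : OrderData G m := by
    refine ⟨hm, fun M hM => ?_, fun M hM => ?_, ?_, ?_, ?_⟩
    · obtain ⟨M', -, he⟩ := hfrom M hM
      rw [he, ← hL]
      exact Subgroup.card_subgroup_dvd_card M'
    · obtain ⟨M', hM', he⟩ := hfrom M hM
      rw [he]
      exact card_le_borelOrder P hF hm hM'.1
    · obtain ⟨M', hM', he⟩ := exists_coatom_borel P hF hm
      obtain ⟨M, hM, he'⟩ := hto M' hM'
      exact ⟨M, hM, he'.symm.trans he⟩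
    · obtain ⟨M', hM', he⟩ := exists_coatom_torus P hF hm
      obtain ⟨M, hM, he'⟩ := hto M' hM'
      exact ⟨M, hM, he'.symm.trans he⟩
    · rw [← hL, Nat.dvd_iff_prime_pow_dvd_dvd]
      intro p e hp hpe
      haveI : Fact p.Prime := ⟨hp⟩
      rcases Nat.eq_zero_or_pos e with rfl | he
      · simp
      obtain ⟨R⟩ : Nonempty (Sylow p ↥(Cfsg.Lie.Sz F (2 ^ (m + 1)))) := inferInstance
      have hne : (R : Subgroup ↥(Cfsg.Lie.Sz F (2 ^ (m + 1)))) ≠ ⊤ := by
        intro etop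
        have h1 : IsPGroup p ↥(Cfsg.Lie.Sz F (2 ^ (m + 1))) := by
          exact (etop ▸ R.2 : IsPGroup p (⊤ : Subgroup ↥(Cfsg.Lie.Sz F (2 ^ (m + 1))))).of_equiv Subgroup.topEquiv
        obtain ⟨j, hj⟩ := IsPGroup.iff_card.1 h1
        rw [hL] at hj
        have h2 : 2 ∣ p ^ j := by
          rw [← hj]
          exact dvd_mul_of_dvd_left (dvd_mul_of_dvd_left
            ((dvd_pow_self 2 (by omega)).trans (dvd_pow_self _ two_ne_zero)) _) _
        have h5 : 5 ∣ p ^ j := by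
          rw [← hj]
          exact (five_dvd m).mul_left _
        have e2 := (Nat.prime_dvd_prime_iff_eq Nat.prime_two hp).1 (Nat.prime_two.dvd_of_dvd_pow h2)
        have e5 := (Nat.prime_dvd_prime_iff_eq Nat.prime_five hp).1 (Nat.prime_five.dvd_of_dvd_pow h5)
        omega
      obtain ⟨M', hM', hRM⟩ :=
        (eq_top_or_exists_le_coatom (R : Subgroup ↥(Cfsg.Lie.Sz F (2 ^ (m + 1))))).resolve_left hne
      obtain ⟨M, -, he'⟩ := hto M' hM'
      exact ((R.pow_dvd_card_of_pow_dvd_card hpe).trans (Subgroup.card_dvd_of_le hRM)).trans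
        (he' ▸ Subgroup.card_subgroup_dvd_card M)
  obtain ⟨F', fF', ftF', hF', ⟨e⟩⟩ := card_eq_of_orderData hTF hd
  obtain ⟨e'⟩ := CfsgLib.CITThree.SzGraph.nonempty_equiv hF hF'
  exact ⟨e.trans e'⟩

end CfsgLib.ThreeFreeMax
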