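import Cfsg.Agent.Lib.SuzukiGroup.Subgroups

/-!
Orders of some maximal subgroups of the Suzuki groups, and a bound for all of them.
-/

set_option autoImplicit false
set_option linter.style.haveILetI false
set_option linter.unusedSectionVars false

namespace CfsgLib.ThreeFreeMax

open CfsgLib.SuzukiGroup Cfsg.Lie

universe v

variable {F : Type v} [Field F] [Fintype F] [CharP F 2] {m : ℕ}
  (P : Params F (2 ^ (m + 1))) (hF : Fintype.card F = 2 ^ (2 * m + 1)) (hm : 1 ≤ m)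

/-- The order of the Borel subgroup. -/
abbrev borelOrder (m : ℕ) : ℕ := (2 ^ (2 * m + 1)) ^ 2 * (2 ^ (2 * m + 1) - 1)

theorem toA_bounds (hm : 1 ≤ m) :
    2 ^ (2 * m + 1) < toA m ∧ toA m < (2 ^ (2 * m + 1)) ^ 2 + 1 ∧
      4 * toA m < borelOrder m ∧ 2 ^ (2 * m + 1) - 1 < toA m ∧ toB m ≤ toA m := by
  have hr := r_le_q m
  have hr0 : 0 < 2 ^ (m + 1) := Nat.two_pow_pos _
  have h8 : 8 ≤ 2 ^ (2 * m + 1) := by
    calc 8 = 2 ^ 3 := rfl
      _ ≤ _ := Nat.pow_le_pow_right (by norm_num) (by omega)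
  have hA : toA m = 2 ^ (2 * m + 1) + 2 ^ (m + 1) + 1 := rfl
  have hB : toB m = 2 ^ (2 * m + 1) - 2 ^ (m + 1) + 1 := rfl
  set q := 2 ^ (2 * m + 1)
  have h1 : toA m ≤ 3 * q := by omega
  have h2 : 8 * q ≤ q ^ 2 := by nlinarith
  refine ⟨by omega, by nlinarith, ?_, by omega, by omega⟩
  have h3 : q ^ 2 * 1 < q ^ 2 * (q - 1) := Nat.mul_lt_mul_of_pos_left (by omega) (by positivity)
  have h4 : 4 * (3 * q) ≤ q ^ 2 * 2 := by nlinarith
  have h5 : q ^ 2 * 2 ≤ q ^ 2 * (q - 1) := Nat.mul_le_mul_left _ (by omega)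
  show 4 * toA m < q ^ 2 * (q - 1)
  have h6 : q ^ 2 * 3 ≤ q ^ 2 * (q - 1) := Nat.mul_le_mul_left _ (by omega)
  nlinarith

include P hF hm in
/-- A proper subgroup is inside a conjugate of the Borel subgroup, or small, or a smaller Suzuki
group. -/
theorem proper_cases {M : Subgroup ↥(Sz F (2 ^ (m + 1)))} (hM : M ≠ ⊤) :
    (Nat.card M ∣ borelOrder m) ∨
      (∃ c, (c = 2 ^ (2 * m + 1) - 1 ∨ c = toA m ∨ c = toB m) ∧ Nat.card M ≤ 4 * c ∧
        ∃ H : Subgroup ↥(Sz F (2 ^ (m + 1))), M ≤ H ∧ Nat.card H ≤ 4 * c) ∨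
      ∃ l : ℕ, 3 * l ≤ 2 * m + 1 ∧
        Nat.card M = (2 ^ l) ^ 2 * (2 ^ l - 1) * ((2 ^ l) ^ 2 + 1) := by
  classical
  rcases subgroup_cases P hF hm M with (⟨k, hk⟩ | ⟨g, hg, hle⟩) | ⟨k, L, l, -, hcard, hdvd, he⟩
  · refine Or.inl ?_
    rw [borelOrder, ← hF, ← card_borel P, Nat.card_congr
      (M.equivMapOfInjective (MulAut.conj k).toMonoidHom (MulAut.conj k).injective).toEquiv]
    exact Subgroup.card_dvd_of_le (by rintro _ ⟨x, hx, rfl⟩; exact hk x hx)
  · refine Or.inr (Or.inl ?_)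
    have h1 : g ≠ 1 := fun e => hg (by rw [e, orderOf_one]; exact one_dvd 4)
    have hN := (oddTI P hF hm).normalizer_le g hg
    obtain ⟨-, hc⟩ := (element_cases P hF hm h1).resolve_left hg
    refine ⟨Nat.card ↥(Subgroup.centralizer {g}), ?_, (Subgroup.card_le_of_le hle).trans hN,
      _, hle, hN⟩
    rcases hc with h | h | h
    · exact Or.inl (h.trans (by rw [hF]))
    · exact Or.inr (Or.inl h)
    · exact Or.inr (Or.inr h)
  · refine Or.inr (Or.inr ⟨l, ?_, ?_⟩)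
    · obtain ⟨t, ht⟩ := hdvd
      have hodd : Odd t := (Nat.odd_mul.1 (ht ▸ (odd_two_mul_add_one m : Odd (2 * m + 1)))).2
      rcases Nat.lt_or_ge t 3 with h3 | h3
      · exfalso
        have ht1 : t = 1 := by obtain ⟨r, hr⟩ := hodd; omega
        rw [ht1, mul_one] at ht
        subst ht
        refine hM (Subgroup.eq_top_of_card_eq _ ?_)
        rw [Nat.card_congr (M.equivMapOfInjective (MulAut.conj k).toMonoidHom (MulAut.conj k).injective).toEquiv, he,
          card_subGroup P L, hcard, card_sz P, hF]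
      · calc 3 * l = l * 3 := Nat.mul_comm _ _
          _ ≤ l * t := Nat.mul_le_mul_left _ h3
          _ = 2 * m + 1 := ht.symm
    · rw [Nat.card_congr (M.equivMapOfInjective (MulAut.conj k).toMonoidHom (MulAut.conj k).injective).toEquiv, he,
        card_subGroup P L, hcard]

theorem sub_order_lt {l : ℕ} (hm : 1 ≤ m) (hl : 3 * l ≤ 2 * m + 1) :
    (2 ^ l - 1) * ((2 ^ l) ^ 2 + 1) < toA m ∧
      (2 ^ l) ^ 2 * (2 ^ l - 1) * ((2 ^ l) ^ 2 + 1) ≤ borelOrder m ∧ 2 * l < 2 * (2 * m + 1) := by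
  have h1 : 2 ^ (3 * l) ≤ 2 ^ (2 * m + 1) := Nat.pow_le_pow_right (by norm_num) hl
  have hA := (toA_bounds hm).1
  have hone : 1 ≤ 2 ^ l := Nat.one_le_two_pow
  have h3 : (2 ^ l - 1) * ((2 ^ l) ^ 2 + 1) ≤ 2 ^ (3 * l) := by
    rw [mul_comm 3 l, pow_mul]
    obtain ⟨b, hb⟩ := Nat.exists_eq_add_of_le hone
    rw [hb, Nat.add_sub_cancel_left]
    ring_nf
    nlinarith
  refine ⟨by omega, ?_, by omega⟩
  rw [mul_assoc, borelOrder]
  refine le_trans (Nat.mul_le_mul_left _ (h3.trans h1)) ?_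
  have h4 : (2 ^ l) ^ 2 * 2 ^ (2 * m + 1) ≤ (2 ^ (2 * m + 1)) ^ 2 * 1 := by
    rw [mul_one, pow_two (2 ^ (2 * m + 1))]
    refine Nat.mul_le_mul_right _ ?_
    rw [← pow_mul]
    exact Nat.pow_le_pow_right (by norm_num) (by omega)
  refine h4.trans (Nat.mul_le_mul_left _ ?_)
  have : 2 ≤ 2 ^ (2 * m + 1) := by
    calc 2 = 2 ^ 1 := rfl
      _ ≤ _ := Nat.pow_le_pow_right (by norm_num) (by omega)
  omega

include P hF hm in
theorem card_le_borelOrder {M : Subgroup ↥(Sz F (2 ^ (m + 1)))} (hM : M ≠ ⊤) :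
    Nat.card M ≤ borelOrder m := by
  obtain ⟨-, -, hA4, hqA, hBA⟩ := toA_bounds hm
  rcases proper_cases P hF hm hM with h | ⟨c, hc, hle, -⟩ | ⟨l, hl, he⟩
  · exact Nat.le_of_dvd (Nat.pos_of_dvd_of_pos (dvd_refl _) (by
      rw [borelOrder, ← hF, ← card_borel P]; exact Nat.card_pos)) h
  · rcases hc with rfl | rfl | rfl <;> omega
  · rw [he]
    exact (sub_order_lt hm hl).2.1

include P hF hm in
theorem borel_isCoatom : IsCoatom (borel (F := F) (e := 2 ^ (m + 1))) := by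
  have hcard : Nat.card ↥(borel (F := F) (e := 2 ^ (m + 1))) = borelOrder m := by
    rw [card_borel P, hF]
  refine ⟨fun e => ?_, fun M hM => ?_⟩
  · have h1 := index_borel P
    rw [e, Subgroup.index_top] at h1
    have : 0 < Fintype.card F := Fintype.card_pos
    nlinarith
  · by_contra hne
    exact hM.ne (Subgroup.eq_of_le_of_card_ge hM.le (hcard.symm ▸ card_le_borelOrder P hF hm hne))

include P hF hm in
theorem exists_coatom_borel :
    ∃ M : Subgroup ↥(Sz F (2 ^ (m + 1))), IsCoatom M ∧ Nat.card M = borelOrder m :=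
  ⟨_, borel_isCoatom P hF hm, by rw [card_borel P, hF]⟩

include P hF hm in
theorem exists_coatom_torus :
    ∃ M : Subgroup ↥(Sz F (2 ^ (m + 1))), IsCoatom M ∧ Nat.card M = 4 * toA m := by
  classical
  obtain ⟨a, -, ha, -, hA, -⟩ := exists_torus_pair P hF hm
  set N := Subgroup.normalizer (Subgroup.centralizer {a} : Set ↥(Sz F (2 ^ (m + 1))))
  have hN : Nat.card N = 4 * toA m := by rw [fpf_card_normalizer P hF hm ha, hA]
  obtain ⟨-, -, hA4, hqA, hBA⟩ := toA_bounds hm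
  have hNtop : N ≠ ⊤ := fun e => by
    have h1 := Subgroup.card_le_of_le (le_top : borel (F := F) (e := 2 ^ (m + 1)) ≤ ⊤)
    rw [← e, hN, card_borel P, hF] at h1
    exact absurd h1 (not_le.2 hA4)
  refine ⟨N, ⟨hNtop, fun M hM => ?_⟩, hN⟩
  by_contra hne
  have hdvd : toA m ∣ Nat.card M :=
    (hN ▸ dvd_mul_left _ 4 : toA m ∣ Nat.card N).trans (Subgroup.card_dvd_of_le hM.le)
  obtain ⟨hAq, -⟩ := toA_toB_dvd (m := m) hF
  have hco : (toA m).Coprime (borelOrder m) := by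
    refine Nat.Coprime.mul_right ?_ ?_
    · rw [← hF]; exact (q_coprime hF hAq).1.pow_right 2
    · rw [← hF]; exact (q_sub_one_coprime hF hm).1.symm
  rcases proper_cases P hF hm hne with h | ⟨c, hc, hle, -⟩ | ⟨l, hl, he⟩
  · have h1 := Nat.eq_one_of_dvd_coprimes hco dvd_rfl (hdvd.trans h)
    exact (one_lt_toA m).ne' h1
  · refine hM.ne (Subgroup.eq_of_le_of_card_ge hM.le ?_)
    rw [hN]
    rcases hc with rfl | rfl | rfl <;> omega
  · rw [he, mul_assoc] at hdvd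
    have h2 : (toA m).Coprime ((2 ^ l) ^ 2) := by
      rw [← pow_mul]
      exact (q_coprime hF hAq).2.pow_right _
    have h3 := h2.dvd_of_dvd_mul_left hdvd
    rcases Nat.eq_zero_or_pos l with rfl | hl0
    · have h4 := Subgroup.card_le_of_le hM.le
      rw [he, hN] at h4
      simp at h4
      exact absurd h4 (by have := one_lt_toA m; omega)
    · refine absurd (Nat.le_of_dvd (Nat.mul_pos ?_ (by positivity)) h3) (not_le.2 (sub_order_lt hm hl).1)
      have : 2 ≤ 2 ^ l := by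
        calc 2 = 2 ^ 1 := rfl
          _ ≤ _ := Nat.pow_le_pow_right (by norm_num) hl0
      omega

end CfsgLib.ThreeFreeMax
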